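import Cfsg.Agent.Lib.PermComp.OutP.Master3
import Cfsg.Agent.Lib.PermComp.OutP.Co3o.DataP0

set_option autoImplicit false
set_option maxRecDepth 100000
set_option maxHeartbeats 0

namespace Cfsg.Agent.Lib.PermComp.OutP.Co3o

open Cfsg Cfsg.Agent.Lib.PermComp.OutP
open Cfsg.Agent.Lib.PermComp.Core (force)
open Cfsg.Agent.Lib.PermComp.Kron (rangeAll rangeAll_spec)

def n : Nat := 552
def mF : Nat := 62
noncomputable def TT_T : Nat := (Nat.lor (Nat.lor (Nat.lor (Nat.lor TT_p0 (Nat.shiftLeft (Nat.lor TT_p1 (Nat.shiftLeft TT_p2 16000)) 16000)) (Nat.shiftLeft (Nat.lor TT_p3 (Nat.shiftLeft (Nat.lor TT_p4 (Nat.shiftLeft TT_p5 16000)) 16000)) 48000)) (Nat.shiftLeft (Nat.lor (Nat.lor TT_p6 (Nat.shiftLeft (Nat.lor TT_p7 (Nat.shiftLeft TT_p8 16000)) 16000)) (Nat.shiftLeft (Nat.lor (Nat.lor TT_p9 (Nat.shiftLeft TT_p10 16000)) (Nat.shiftLeft (Nat.lor TT_p11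 (Nat.shiftLeft TT_p12 16000)) 32000)) 48000)) 96000)) (Nat.shiftLeft (Nat.lor (Nat.lor (Nat.lor TT_p13 (Nat.shiftLeft (Nat.lor TT_p14 (Nat.shiftLeft TT_p15 16000)) 16000)) (Nat.shiftLeft (Nat.lor TT_p16 (Nat.shiftLeft (Nat.lor TT_p17 (Nat.shiftLeft TT_p18 16000)) 16000)) 48000)) (Nat.shiftLeft (Nat.lor (Nat.lor TT_p19 (Nat.shiftLeft (Nat.lor TT_p20 (Nat.shiftLeft TT_p21 16000)) 16000)) (Nat.shiftLeft (Nat.lor (Nat.lor TT_p22 (Nat.shiftLeft TT_p23 16000)) (Nat.shiftLeft (Nat.lor TT_p24 (Nat.shiftLeft TT_p25 16000)) 32000)) 48000)) 96000)) 208000))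
noncomputable def TT_M1 : Nat := Nat.sub (Nat.shiftLeft 1 40960) 1
noncomputable def TT_M2 : Nat := Nat.sub (Nat.shiftLeft 1 640) 1
noncomputable def TT (p : Nat) : Nat :=
  force (Nat.shiftRight p 12) fun b1 => force (Nat.land (Nat.shiftRight p 6) 63) fun b2 =>
    Nat.land (Nat.shiftRight (Nat.land (Nat.shiftRight (Nat.land (Nat.shiftRight TT_T (Nat.mul b1 40960)) TT_M1) (Nat.mul b2 640)) TT_M2) (Nat.mul (Nat.land p 63) 10)) 1023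

noncomputable def F (g p : Nat) : Nat := TT (Nat.add (Nat.mul g 552) p)

def progL : List (List Nat) := [
  [],
  [],
  [0, 0, 0, 0, 1, 0, 0, 0, 1, 0, 0, 0, 1, 0, 1, 0, 1, 0, 0, 1, 1, 0, 1, 0, 1, 1, 0],
  [0, 0, 0, 1, 0, 0, 0, 1, 0, 0, 0, 0, 1, 0, 1, 0, 0, 1, 1, 1, 1, 0, 0, 0],
  [2, 2, 2, 2, 3, 2, 3, 2, 2, 2, 2, 2, 2, 2, 3, 2, 3, 3, 2, 2, 3],
  [3, 3, 2, 3, 3, 3, 2, 2, 3, 2, 3, 3, 3, 2, 2, 2, 2, 3],
  [3, 3, 2, 2, 3, 3, 2, 3, 2, 2, 3, 3, 3, 3, 3, 2],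
  [5, 4, 4, 5, 5, 6, 4, 5, 6, 6, 5, 4, 5, 5, 5, 6, 4],
  [5, 5, 4, 5, 4, 6, 5, 6, 6, 4, 6, 6, 4, 4, 5, 5],
  [7, 8, 7, 8, 7, 8, 8, 8, 8, 7, 8, 7, 8, 7, 7, 7, 7, 8],
  [7, 8, 7, 7, 7, 8, 7, 7, 8, 7, 7, 7, 7, 7, 8, 8],
  [8, 7, 8, 7, 8, 7, 7, 8, 8, 8, 8, 8, 7, 7, 7],
  [9, 11, 10, 9, 11, 10, 10, 11, 10, 11, 9, 10, 9, 9],
  [10, 10, 10, 9, 10, 11, 10, 9, 9, 10, 10, 9, 11, 10, 11, 11, 9],
  [1, 1, 0, 1, 1, 0, 0, 0, 0, 0, 0, 1],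
  [14, 14, 14, 14, 14, 14, 14, 14, 14],
  [1, 15, 1, 14],
  [1, 1, 1, 1, 1, 1, 1, 0, 0, 1, 0, 0],
  [17, 17, 17, 17, 17, 17, 17, 17, 17],
  [1, 18, 1, 17],
  [1, 0, 0, 1, 0, 1, 1, 0, 0, 0, 1, 1],
  [20, 20, 20, 20, 20, 20, 20, 20, 20, 20, 20, 20, 20, 20, 20, 20, 20, 20, 20],
  [1, 21, 1, 20],
  [0, 1, 0, 1, 0, 1, 1, 1, 1, 1, 1, 0],
  [23, 23, 23, 23, 23, 23, 23, 23, 23, 23, 23, 23, 23, 23, 23, 23, 23, 23, 23, 23, 23],
  [1, 24, 1, 23],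
  [16, 16],
  [19, 19],
  [22, 22, 22],
  [23, 25, 25],
  [27, 28, 26, 29, 27, 26, 27, 29, 27, 28, 29, 27, 28, 29, 29, 29],
  [29, 29, 29, 29, 29, 26, 28, 29, 29, 28, 29, 27, 26, 28, 26, 26, 26, 26, 26],
  [31, 31, 30, 30, 30, 30, 30, 31, 30, 31, 31, 31, 31, 31, 31, 31, 30],
  [31, 30, 31, 31, 31, 31, 30, 31, 30, 31, 31, 31, 30, 31, 31, 30, 31],
  [1, 0, 1, 0, 0, 0, 0, 1, 0, 1, 1, 1],
  [1, 1, 0, 1, 0, 0, 0, 1, 0, 0, 1, 0],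
  [0, 1, 0, 1, 1, 0, 0, 0, 0, 1, 1, 0],
  [0, 1, 0, 0, 0, 0, 0, 1, 1, 1, 1, 0],
  [1, 0, 1, 0, 1, 0, 1, 0, 0, 1, 0, 0],
  [0, 1, 1, 1, 0, 1, 1, 1, 0, 1, 1, 1],
  [1, 0, 0, 1, 1, 1, 1, 0, 0, 0, 0, 0],
  [1, 0, 0, 1, 0, 1, 1, 1, 1, 1, 0, 1],
  [34, 34, 34, 34, 34, 34, 34, 34, 34, 34],
  [35, 35, 35, 35, 35, 35, 35, 35, 35, 35, 35],
  [36, 36, 36, 36, 36],
  [37, 37, 37, 37, 37],
  [38, 38, 38, 38, 38, 38, 38, 38, 38, 38],
  [39],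
  [40, 40, 40, 40, 40],
  [41, 41, 41, 41, 41, 41, 41, 41, 41, 41, 41],
  [12, 10, 9, 11, 7, 7, 7, 8, 8, 7, 8, 8, 4, 4, 6, 5],
  [12, 10, 10, 10, 7, 8, 7, 8, 8, 7, 7, 6, 5, 6, 4, 5, 2, 2, 2, 3, 2, 2],
  [9, 11, 10, 10, 7, 8, 8, 7, 7, 7, 4, 5, 6, 5, 3, 3, 3, 2, 2, 2, 2, 3],
  [12, 12, 9, 11, 9, 7, 8, 8, 7, 7, 8, 5, 5, 6, 5, 2, 3, 2, 3, 0, 0, 0, 0, 1, 0, 0, 1, 0, 1, 0, 0, 0, 0, 0, 1],
  [12, 10, 11, 9, 7, 7, 7, 7, 8, 7, 8, 7, 4, 4, 6, 4, 6, 4, 3, 2, 3, 2, 2, 2, 2, 0, 0, 1, 0, 1, 0, 0, 1, 0, 0, 1, 0, 0],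
  [12, 9, 7, 8, 7, 7, 8, 5, 4, 6, 4, 4, 2, 2, 2, 3, 2, 2, 0, 0, 0, 1, 0, 0, 0, 1, 0, 0, 1, 0, 0],
  [12, 9, 9, 11, 9, 10, 8, 8, 8, 7, 8, 6, 5, 6, 4, 2, 3, 3, 2, 3, 2, 2, 0, 0, 0, 0, 1, 0, 0, 1, 0, 1, 0, 0],
  [12, 9, 11, 9, 11, 11, 7, 8, 7, 7, 7, 5, 4, 4, 4, 2, 2, 3, 3, 3, 2, 3, 2, 0, 1, 0, 0, 1, 0, 0, 0, 0, 0, 0, 0, 1, 0],
  [10, 9, 9, 10, 10, 7, 8, 8, 7, 7, 7, 4, 5, 4, 4, 5, 2, 3, 2, 2, 3, 2, 3, 3, 2, 0, 0, 0, 0, 1, 0, 0, 0, 1, 0],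
  [10, 10, 10, 9, 8, 7, 8, 6, 6, 3, 3, 2, 2, 2, 3, 0, 0, 1, 0, 0, 0, 0, 1, 0, 0, 0, 1],
  [9, 11, 9, 11, 11, 8, 7, 8, 7, 5, 5, 5, 4, 6, 6, 2, 2, 2, 2, 2, 3, 3, 3, 2, 0, 1, 0, 0, 1, 0, 0, 0, 0, 0, 0, 0, 1, 0],
  [50, 52, 55]]
def prog (g : Nat) : List Nat := progL.getD g []

def prog2L : List (List Nat) := [
  [],
  [],
  [62, 63, 63, 62, 63, 62, 63, 63, 63, 63, 62, 63, 63, 62, 63, 62, 62, 62, 62, 63, 62, 62, 63, 62, 63, 63, 63, 63, 63, 62, 63, 63, 63, 62, 62, 63, 63, 62, 63, 63],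
  [64],
  [63, 62, 63, 62, 62, 63, 62, 62, 62, 62, 62, 63],
  [66, 66, 66, 66, 66, 66, 66, 66, 66, 66, 66, 66],
  [63, 62, 62, 62, 63, 62, 62, 63, 62, 63, 62, 63],
  [68, 68, 68],
  [62, 63, 63, 62, 63, 62, 63, 63, 63, 62, 62, 63],
  [70, 70, 70, 70, 70, 70, 70, 70, 70, 70, 70, 70],
  [62, 63, 62, 62, 63, 62, 62, 62, 62, 62, 63, 62, 63, 63, 62, 63, 62, 63, 62, 63, 62, 62, 62, 62, 62, 63, 62, 62, 62, 63, 62, 62, 62, 63, 63, 63, 62, 62, 62, 62],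
  [72, 72, 72, 72, 72, 72, 72],
  [67, 69, 67, 71, 73, 71, 67, 69, 67]]
def prog2 (g : Nat) : List Nat := prog2L.getD (g - 62) []

noncomputable def dL0_pt_T : Nat := dL0_pt_p0
noncomputable def dL0_pt_M1 : Nat := Nat.sub (Nat.shiftLeft 1 40960) 1
noncomputable def dL0_pt_M2 : Nat := Nat.sub (Nat.shiftLeft 1 320) 1
noncomputable def dL0_pt (p : Nat) : Nat :=
  force (Nat.shiftRight p 12) fun b1 => force (Nat.land (Nat.shiftRight p 5) 127) fun b2 =>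
    Nat.land (Nat.shiftRight (Nat.land (Nat.shiftRight (Nat.land (Nat.shiftRight dL0_pt_T (Nat.mul b1 40960)) dL0_pt_M1) (Nat.mul b2 320)) dL0_pt_M2) (Nat.mul (Nat.land p 31) 10)) 1023

noncomputable def dL0_pi_T : Nat := dL0_pi_p0
noncomputable def dL0_pi_M1 : Nat := Nat.sub (Nat.shiftLeft 1 40960) 1
noncomputable def dL0_pi_M2 : Nat := Nat.sub (Nat.shiftLeft 1 320) 1
noncomputable def dL0_pi (p : Nat) : Nat :=
  force (Nat.shiftRight p 12) fun b1 => force (Nat.land (Nat.shiftRight p 5) 127) fun b2 =>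
    Nat.land (Nat.shiftRight (Nat.land (Nat.shiftRight (Nat.land (Nat.shiftRight dL0_pi_T (Nat.mul b1 40960)) dL0_pi_M1) (Nat.mul b2 320)) dL0_pi_M2) (Nat.mul (Nat.land p 31) 10)) 1023

noncomputable def dL0_tr_T : Nat := dL0_tr_p0
noncomputable def dL0_tr_M1 : Nat := Nat.sub (Nat.shiftLeft 1 45056) 1
noncomputable def dL0_tr_M2 : Nat := Nat.sub (Nat.shiftLeft 1 352) 1
noncomputable def dL0_tr (p : Nat) : Nat :=
  force (Nat.shiftRight p 12) fun b1 => force (Nat.land (Nat.shiftRight p 5) 127) fun b2 =>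
    Nat.land (Nat.shiftRight (Nat.land (Nat.shiftRight (Nat.land (Nat.shiftRight dL0_tr_T (Nat.mul b1 45056)) dL0_tr_M1) (Nat.mul b2 352)) dL0_tr_M2) (Nat.mul (Nat.land p 31) 11)) 2047

noncomputable def dL0 : LevD := ⟨0, 552, 2, 0, dL0_pt, dL0_pi, dL0_tr⟩

noncomputable def dL1_pt_T : Nat := dL1_pt_p0
noncomputable def dL1_pt_M1 : Nat := Nat.sub (Nat.shiftLeft 1 40960) 1
noncomputable def dL1_pt_M2 : Nat := Nat.sub (Nat.shiftLeft 1 320) 1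
noncomputable def dL1_pt (p : Nat) : Nat :=
  force (Nat.shiftRight p 12) fun b1 => force (Nat.land (Nat.shiftRight p 5) 127) fun b2 =>
    Nat.land (Nat.shiftRight (Nat.land (Nat.shiftRight (Nat.land (Nat.shiftRight dL1_pt_T (Nat.mul b1 40960)) dL1_pt_M1) (Nat.mul b2 320)) dL1_pt_M2) (Nat.mul (Nat.land p 31) 10)) 1023

noncomputable def dL1_pi_T : Nat := dL1_pi_p0
noncomputable def dL1_pi_M1 : Nat := Nat.sub (Nat.shiftLeft 1 36864) 1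
noncomputable def dL1_pi_M2 : Nat := Nat.sub (Nat.shiftLeft 1 288) 1
noncomputable def dL1_pi (p : Nat) : Nat :=
  force (Nat.shiftRight p 12) fun b1 => force (Nat.land (Nat.shiftRight p 5) 127) fun b2 =>
    Nat.land (Nat.shiftRight (Nat.land (Nat.shiftRight (Nat.land (Nat.shiftRight dL1_pi_T (Nat.mul b1 36864)) dL1_pi_M1) (Nat.mul b2 288)) dL1_pi_M2) (Nat.mul (Nat.land p 31) 9)) 511

noncomputable def dL1_tr_T : Nat := dL1_tr_p0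
noncomputable def dL1_tr_M1 : Nat := Nat.sub (Nat.shiftLeft 1 40960) 1
noncomputable def dL1_tr_M2 : Nat := Nat.sub (Nat.shiftLeft 1 320) 1
noncomputable def dL1_tr (p : Nat) : Nat :=
  force (Nat.shiftRight p 12) fun b1 => force (Nat.land (Nat.shiftRight p 5) 127) fun b2 =>
    Nat.land (Nat.shiftRight (Nat.land (Nat.shiftRight (Nat.land (Nat.shiftRight dL1_tr_T (Nat.mul b1 40960)) dL1_tr_M1) (Nat.mul b2 320)) dL1_tr_M2) (Nat.mul (Nat.land p 31) 10)) 1023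

noncomputable def dL1 : LevD := ⟨1, 275, 2, 2, dL1_pt, dL1_pi, dL1_tr⟩

noncomputable def dL2_pt_T : Nat := dL2_pt_p0
noncomputable def dL2_pt_M1 : Nat := Nat.sub (Nat.shiftLeft 1 40960) 1
noncomputable def dL2_pt_M2 : Nat := Nat.sub (Nat.shiftLeft 1 320) 1
noncomputable def dL2_pt (p : Nat) : Nat :=
  force (Nat.shiftRight p 12) fun b1 => force (Nat.land (Nat.shiftRight p 5) 127) fun b2 =>
    Nat.land (Nat.shiftRight (Nat.land (Nat.shiftRight (Nat.land (Nat.shiftRight dL2_pt_T (Nat.mul b1 40960)) dL2_pt_M1) (Nat.mul b2 320)) dL2_pt_M2) (Nat.mul (Nat.land p 31) 10)) 1023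

noncomputable def dL2_pi_T : Nat := dL2_pi_p0
noncomputable def dL2_pi_M1 : Nat := Nat.sub (Nat.shiftLeft 1 32768) 1
noncomputable def dL2_pi_M2 : Nat := Nat.sub (Nat.shiftLeft 1 256) 1
noncomputable def dL2_pi (p : Nat) : Nat :=
  force (Nat.shiftRight p 12) fun b1 => force (Nat.land (Nat.shiftRight p 5) 127) fun b2 =>
    Nat.land (Nat.shiftRight (Nat.land (Nat.shiftRight (Nat.land (Nat.shiftRight dL2_pi_T (Nat.mul b1 32768)) dL2_pi_M1) (Nat.mul b2 256)) dL2_pi_M2) (Nat.mul (Nat.land p 31) 8)) 255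

noncomputable def dL2_tr_T : Nat := dL2_tr_p0
noncomputable def dL2_tr_M1 : Nat := Nat.sub (Nat.shiftLeft 1 36864) 1
noncomputable def dL2_tr_M2 : Nat := Nat.sub (Nat.shiftLeft 1 288) 1
noncomputable def dL2_tr (p : Nat) : Nat :=
  force (Nat.shiftRight p 12) fun b1 => force (Nat.land (Nat.shiftRight p 5) 127) fun b2 =>
    Nat.land (Nat.shiftRight (Nat.land (Nat.shiftRight (Nat.land (Nat.shiftRight dL2_tr_T (Nat.mul b1 36864)) dL2_tr_M1) (Nat.mul b2 288)) dL2_tr_M2) (Nat.mul (Nat.land p 31) 9)) 511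

noncomputable def dL2 : LevD := ⟨2, 162, 3, 4, dL2_pt, dL2_pi, dL2_tr⟩

noncomputable def dL3_pt_T : Nat := dL3_pt_p0
noncomputable def dL3_pt_M1 : Nat := Nat.sub (Nat.shiftLeft 1 40960) 1
noncomputable def dL3_pt_M2 : Nat := Nat.sub (Nat.shiftLeft 1 320) 1
noncomputable def dL3_pt (p : Nat) : Nat :=
  force (Nat.shiftRight p 12) fun b1 => force (Nat.land (Nat.shiftRight p 5) 127) fun b2 =>
    Nat.land (Nat.shiftRight (Nat.land (Nat.shiftRight (Nat.land (Nat.shiftRight dL3_pt_T (Nat.mul b1 40960)) dL3_pt_M1) (Nat.mul b2 320)) dL3_pt_M2) (Nat.mul (Nat.land p 31) 10)) 1023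

noncomputable def dL3_pi_T : Nat := dL3_pi_p0
noncomputable def dL3_pi_M1 : Nat := Nat.sub (Nat.shiftLeft 1 28672) 1
noncomputable def dL3_pi_M2 : Nat := Nat.sub (Nat.shiftLeft 1 224) 1
noncomputable def dL3_pi (p : Nat) : Nat :=
  force (Nat.shiftRight p 12) fun b1 => force (Nat.land (Nat.shiftRight p 5) 127) fun b2 =>
    Nat.land (Nat.shiftRight (Nat.land (Nat.shiftRight (Nat.land (Nat.shiftRight dL3_pi_T (Nat.mul b1 28672)) dL3_pi_M1) (Nat.mul b2 224)) dL3_pi_M2) (Nat.mul (Nat.land p 31) 7)) 127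

noncomputable def dL3_tr_T : Nat := dL3_tr_p0
noncomputable def dL3_tr_M1 : Nat := Nat.sub (Nat.shiftLeft 1 32768) 1
noncomputable def dL3_tr_M2 : Nat := Nat.sub (Nat.shiftLeft 1 256) 1
noncomputable def dL3_tr (p : Nat) : Nat :=
  force (Nat.shiftRight p 12) fun b1 => force (Nat.land (Nat.shiftRight p 5) 127) fun b2 =>
    Nat.land (Nat.shiftRight (Nat.land (Nat.shiftRight (Nat.land (Nat.shiftRight dL3_tr_T (Nat.mul b1 32768)) dL3_tr_M1) (Nat.mul b2 256)) dL3_tr_M2) (Nat.mul (Nat.land p 31) 8)) 255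

noncomputable def dL3 : LevD := ⟨3, 105, 2, 7, dL3_pt, dL3_pi, dL3_tr⟩

noncomputable def dL4_pt_T : Nat := dL4_pt_p0
noncomputable def dL4_pt_M1 : Nat := Nat.sub (Nat.shiftLeft 1 40960) 1
noncomputable def dL4_pt_M2 : Nat := Nat.sub (Nat.shiftLeft 1 320) 1
noncomputable def dL4_pt (p : Nat) : Nat :=
  force (Nat.shiftRight p 12) fun b1 => force (Nat.land (Nat.shiftRight p 5) 127) fun b2 =>
    Nat.land (Nat.shiftRight (Nat.land (Nat.shiftRight (Nat.land (Nat.shiftRight dL4_pt_T (Nat.mul b1 40960)) dL4_pt_M1) (Nat.mul b2 320)) dL4_pt_M2) (Nat.mul (Nat.land p 31) 10)) 1023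

noncomputable def dL4_pi_T : Nat := dL4_pi_p0
noncomputable def dL4_pi_M1 : Nat := Nat.sub (Nat.shiftLeft 1 28672) 1
noncomputable def dL4_pi_M2 : Nat := Nat.sub (Nat.shiftLeft 1 224) 1
noncomputable def dL4_pi (p : Nat) : Nat :=
  force (Nat.shiftRight p 12) fun b1 => force (Nat.land (Nat.shiftRight p 5) 127) fun b2 =>
    Nat.land (Nat.shiftRight (Nat.land (Nat.shiftRight (Nat.land (Nat.shiftRight dL4_pi_T (Nat.mul b1 28672)) dL4_pi_M1) (Nat.mul b2 224)) dL4_pi_M2) (Nat.mul (Nat.land p 31) 7)) 127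

noncomputable def dL4_tr_T : Nat := dL4_tr_p0
noncomputable def dL4_tr_M1 : Nat := Nat.sub (Nat.shiftLeft 1 32768) 1
noncomputable def dL4_tr_M2 : Nat := Nat.sub (Nat.shiftLeft 1 256) 1
noncomputable def dL4_tr (p : Nat) : Nat :=
  force (Nat.shiftRight p 12) fun b1 => force (Nat.land (Nat.shiftRight p 5) 127) fun b2 =>
    Nat.land (Nat.shiftRight (Nat.land (Nat.shiftRight (Nat.land (Nat.shiftRight dL4_tr_T (Nat.mul b1 32768)) dL4_tr_M1) (Nat.mul b2 256)) dL4_tr_M2) (Nat.mul (Nat.land p 31) 8)) 255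

noncomputable def dL4 : LevD := ⟨4, 64, 3, 9, dL4_pt, dL4_pi, dL4_tr⟩

noncomputable def dL5_pt_T : Nat := dL5_pt_p0
noncomputable def dL5_pt_M1 : Nat := Nat.sub (Nat.shiftLeft 1 40960) 1
noncomputable def dL5_pt_M2 : Nat := Nat.sub (Nat.shiftLeft 1 320) 1
noncomputable def dL5_pt (p : Nat) : Nat :=
  force (Nat.shiftRight p 12) fun b1 => force (Nat.land (Nat.shiftRight p 5) 127) fun b2 =>
    Nat.land (Nat.shiftRight (Nat.land (Nat.shiftRight (Nat.land (Nat.shiftRight dL5_pt_T (Nat.mul b1 40960)) dL5_pt_M1) (Nat.mul b2 320)) dL5_pt_M2) (Nat.mul (Nat.land p 31) 10)) 1023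

noncomputable def dL5_pi_T : Nat := dL5_pi_p0
noncomputable def dL5_pi_M1 : Nat := Nat.sub (Nat.shiftLeft 1 8192) 1
noncomputable def dL5_pi_M2 : Nat := Nat.sub (Nat.shiftLeft 1 64) 1
noncomputable def dL5_pi (p : Nat) : Nat :=
  force (Nat.shiftRight p 12) fun b1 => force (Nat.land (Nat.shiftRight p 5) 127) fun b2 =>
    Nat.land (Nat.shiftRight (Nat.land (Nat.shiftRight (Nat.land (Nat.shiftRight dL5_pi_T (Nat.mul b1 8192)) dL5_pi_M1) (Nat.mul b2 64)) dL5_pi_M2) (Nat.mul (Nat.land p 31) 2)) 3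

noncomputable def dL5_tr_T : Nat := dL5_tr_p0
noncomputable def dL5_tr_M1 : Nat := Nat.sub (Nat.shiftLeft 1 8192) 1
noncomputable def dL5_tr_M2 : Nat := Nat.sub (Nat.shiftLeft 1 64) 1
noncomputable def dL5_tr (p : Nat) : Nat :=
  force (Nat.shiftRight p 12) fun b1 => force (Nat.land (Nat.shiftRight p 5) 127) fun b2 =>
    Nat.land (Nat.shiftRight (Nat.land (Nat.shiftRight (Nat.land (Nat.shiftRight dL5_tr_T (Nat.mul b1 8192)) dL5_tr_M1) (Nat.mul b2 64)) dL5_tr_M2) (Nat.mul (Nat.land p 31) 2)) 3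

noncomputable def dL5 : LevD := ⟨5, 3, 2, 12, dL5_pt, dL5_pi, dL5_tr⟩

noncomputable def cL0_pt_T : Nat := cL0_pt_p0
noncomputable def cL0_pt_M1 : Nat := Nat.sub (Nat.shiftLeft 1 40960) 1
noncomputable def cL0_pt_M2 : Nat := Nat.sub (Nat.shiftLeft 1 320) 1
noncomputable def cL0_pt (p : Nat) : Nat :=
  force (Nat.shiftRight p 12) fun b1 => force (Nat.land (Nat.shiftRight p 5) 127) fun b2 =>
    Nat.land (Nat.shiftRight (Nat.land (Nat.shiftRight (Nat.land (Nat.shiftRight cL0_pt_T (Nat.mul b1 40960)) cL0_pt_M1) (Nat.mul b2 320)) cL0_pt_M2) (Nat.mul (Nat.land p 31) 10)) 1023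

noncomputable def cL0_pi_T : Nat := cL0_pi_p0
noncomputable def cL0_pi_M1 : Nat := Nat.sub (Nat.shiftLeft 1 36864) 1
noncomputable def cL0_pi_M2 : Nat := Nat.sub (Nat.shiftLeft 1 288) 1
noncomputable def cL0_pi (p : Nat) : Nat :=
  force (Nat.shiftRight p 12) fun b1 => force (Nat.land (Nat.shiftRight p 5) 127) fun b2 =>
    Nat.land (Nat.shiftRight (Nat.land (Nat.shiftRight (Nat.land (Nat.shiftRight cL0_pi_T (Nat.mul b1 36864)) cL0_pi_M1) (Nat.mul b2 288)) cL0_pi_M2) (Nat.mul (Nat.land p 31) 9)) 511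

noncomputable def cL0_tr_T : Nat := cL0_tr_p0
noncomputable def cL0_tr_M1 : Nat := Nat.sub (Nat.shiftLeft 1 45056) 1
noncomputable def cL0_tr_M2 : Nat := Nat.sub (Nat.shiftLeft 1 352) 1
noncomputable def cL0_tr (p : Nat) : Nat :=
  force (Nat.shiftRight p 12) fun b1 => force (Nat.land (Nat.shiftRight p 5) 127) fun b2 =>
    Nat.land (Nat.shiftRight (Nat.land (Nat.shiftRight (Nat.land (Nat.shiftRight cL0_tr_T (Nat.mul b1 45056)) cL0_tr_M1) (Nat.mul b2 352)) cL0_tr_M2) (Nat.mul (Nat.land p 31) 11)) 2047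

noncomputable def cL0 : LevD := ⟨2, 480, 4, 26, cL0_pt, cL0_pi, cL0_tr⟩

noncomputable def cL1_pt_T : Nat := cL1_pt_p0
noncomputable def cL1_pt_M1 : Nat := Nat.sub (Nat.shiftLeft 1 40960) 1
noncomputable def cL1_pt_M2 : Nat := Nat.sub (Nat.shiftLeft 1 320) 1
noncomputable def cL1_pt (p : Nat) : Nat :=
  force (Nat.shiftRight p 12) fun b1 => force (Nat.land (Nat.shiftRight p 5) 127) fun b2 =>
    Nat.land (Nat.shiftRight (Nat.land (Nat.shiftRight (Nat.land (Nat.shiftRight cL1_pt_T (Nat.mul b1 40960)) cL1_pt_M1) (Nat.mul b2 320)) cL1_pt_M2) (Nat.mul (Nat.land p 31) 10)) 1023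

noncomputable def cL1_pi_T : Nat := cL1_pi_p0
noncomputable def cL1_pi_M1 : Nat := Nat.sub (Nat.shiftLeft 1 28672) 1
noncomputable def cL1_pi_M2 : Nat := Nat.sub (Nat.shiftLeft 1 224) 1
noncomputable def cL1_pi (p : Nat) : Nat :=
  force (Nat.shiftRight p 12) fun b1 => force (Nat.land (Nat.shiftRight p 5) 127) fun b2 =>
    Nat.land (Nat.shiftRight (Nat.land (Nat.shiftRight (Nat.land (Nat.shiftRight cL1_pi_T (Nat.mul b1 28672)) cL1_pi_M1) (Nat.mul b2 224)) cL1_pi_M2) (Nat.mul (Nat.land p 31) 7)) 127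

noncomputable def cL1_tr_T : Nat := cL1_tr_p0
noncomputable def cL1_tr_M1 : Nat := Nat.sub (Nat.shiftLeft 1 32768) 1
noncomputable def cL1_tr_M2 : Nat := Nat.sub (Nat.shiftLeft 1 256) 1
noncomputable def cL1_tr (p : Nat) : Nat :=
  force (Nat.shiftRight p 12) fun b1 => force (Nat.land (Nat.shiftRight p 5) 127) fun b2 =>
    Nat.land (Nat.shiftRight (Nat.land (Nat.shiftRight (Nat.land (Nat.shiftRight cL1_tr_T (Nat.mul b1 32768)) cL1_tr_M1) (Nat.mul b2 256)) cL1_tr_M2) (Nat.mul (Nat.land p 31) 8)) 255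

noncomputable def cL1 : LevD := ⟨3, 126, 2, 30, cL1_pt, cL1_pi, cL1_tr⟩

noncomputable def cL2_pt_T : Nat := cL2_pt_p0
noncomputable def cL2_pt_M1 : Nat := Nat.sub (Nat.shiftLeft 1 40960) 1
noncomputable def cL2_pt_M2 : Nat := Nat.sub (Nat.shiftLeft 1 320) 1
noncomputable def cL2_pt (p : Nat) : Nat :=
  force (Nat.shiftRight p 12) fun b1 => force (Nat.land (Nat.shiftRight p 5) 127) fun b2 =>
    Nat.land (Nat.shiftRight (Nat.land (Nat.shiftRight (Nat.land (Nat.shiftRight cL2_pt_T (Nat.mul b1 40960)) cL2_pt_M1) (Nat.mul b2 320)) cL2_pt_M2) (Nat.mul (Nat.land p 31) 10)) 1023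

noncomputable def cL2_pi_T : Nat := cL2_pi_p0
noncomputable def cL2_pi_M1 : Nat := Nat.sub (Nat.shiftLeft 1 24576) 1
noncomputable def cL2_pi_M2 : Nat := Nat.sub (Nat.shiftLeft 1 192) 1
noncomputable def cL2_pi (p : Nat) : Nat :=
  force (Nat.shiftRight p 12) fun b1 => force (Nat.land (Nat.shiftRight p 5) 127) fun b2 =>
    Nat.land (Nat.shiftRight (Nat.land (Nat.shiftRight (Nat.land (Nat.shiftRight cL2_pi_T (Nat.mul b1 24576)) cL2_pi_M1) (Nat.mul b2 192)) cL2_pi_M2) (Nat.mul (Nat.land p 31) 6)) 63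

noncomputable def cL2_tr_T : Nat := cL2_tr_p0
noncomputable def cL2_tr_M1 : Nat := Nat.sub (Nat.shiftLeft 1 28672) 1
noncomputable def cL2_tr_M2 : Nat := Nat.sub (Nat.shiftLeft 1 224) 1
noncomputable def cL2_tr (p : Nat) : Nat :=
  force (Nat.shiftRight p 12) fun b1 => force (Nat.land (Nat.shiftRight p 5) 127) fun b2 =>
    Nat.land (Nat.shiftRight (Nat.land (Nat.shiftRight (Nat.land (Nat.shiftRight cL2_tr_T (Nat.mul b1 28672)) cL2_tr_M1) (Nat.mul b2 224)) cL2_tr_M2) (Nat.mul (Nat.land p 31) 7)) 127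

noncomputable def cL2 : LevD := ⟨4, 48, 2, 32, cL2_pt, cL2_pi, cL2_tr⟩

noncomputable def ds : List LevD := [dL0, dL1, dL2, dL3, dL4, dL5]
noncomputable def cs : List LevD := [cL0, cL1, cL2]

noncomputable def FPL_T : Nat := (Nat.lor (Nat.lor (Nat.lor (Nat.lor (Nat.lor (Nat.lor (Nat.lor FPL_p0 (Nat.shiftLeft (Nat.lor FPL_p1 (Nat.shiftLeft FPL_p2 15981)) 15981)) (Nat.shiftLeft (Nat.lor (Nat.lor FPL_p3 (Nat.shiftLeft FPL_p4 15981)) (Nat.shiftLeft (Nat.lor FPL_p5 (Nat.shiftLeft FPL_p6 15981)) 31962)) 47943)) (Nat.shiftLeft (Nat.lor (Nat.lor FPL_p7 (Nat.shiftLeft (Nat.lor FPL_p8 (Nat.shiftLeft FPL_p9 15981)) 15981)) (Nat.shiftLeft (Nat.lor (Nat.lor FPL_p10 (Nat.shiftLeft FPL_p11 15981)) (Nat.shiftLeft (Nat.lor FPL_p12 (Nat.shiftLeft FPL_p13 15981)) 31962)) 47943)) 111867)) (Nat.shiftLeft (Nat.lor (Nat.lor (Nat.lor FPL_p14 (Nat.shiftLeft (Nat.lor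 FPL_p15 (Nat.shiftLeft FPL_p16 15981)) 15981)) (Nat.shiftLeft (Nat.lor (Nat.lor FPL_p17 (Nat.shiftLeft FPL_p18 15981)) (Nat.shiftLeft (Nat.lor FPL_p19 (Nat.shiftLeft FPL_p20 15981)) 31962)) 47943)) (Nat.shiftLeft (Nat.lor (Nat.lor FPL_p21 (Nat.shiftLeft (Nat.lor FPL_p22 (Nat.shiftLeft FPL_p23 15981)) 15981)) (Nat.shiftLeft (Nat.lor (Nat.lor FPL_p24 (Nat.shiftLeft FPL_p25 15981)) (Nat.shiftLeft (Nat.lor FPL_p26 (Nat.shiftLeft FPL_p27 15981)) 31962)) 47943)) 111867)) 223734)) (Nat.shiftLeft (Nat.lor (Nat.lor (Nat.lor (Nat.lor FPL_p28 (Nat.shiftLeft (Nat.lor FPL_p29 (Nat.shiftLeft FPL_p30 15981)) 15981)) (Nat.shiftLeft (Nat.lor (Nat.lor FPL_p31 (Nat.shiftLeft FPL_p32 15981)) (Nat.shiftLeft (Nat.lor FPL_p33 (Nat.shiftLeft FPL_p34 15981)) 31962)) 47943)) (Nat.shiftLeft (Nat.lor (Nat.lor FPL_p35 (Nat.shiftLeft (Nat.lor FPL_p36 (Nat.shiftLeft FPL_p37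 15981)) 15981)) (Nat.shiftLeft (Nat.lor (Nat.lor FPL_p38 (Nat.shiftLeft FPL_p39 15981)) (Nat.shiftLeft (Nat.lor FPL_p40 (Nat.shiftLeft FPL_p41 15981)) 31962)) 47943)) 111867)) (Nat.shiftLeft (Nat.lor (Nat.lor (Nat.lor FPL_p42 (Nat.shiftLeft (Nat.lor FPL_p43 (Nat.shiftLeft FPL_p44 15981)) 15981)) (Nat.shiftLeft (Nat.lor (Nat.lor FPL_p45 (Nat.shiftLeft FPL_p46 15981)) (Nat.shiftLeft (Nat.lor FPL_p47 (Nat.shiftLeft FPL_p48 15981)) 31962)) 47943)) (Nat.shiftLeft (Nat.lor (Nat.lor FPL_p49 (Nat.shiftLeft (Nat.lor FPL_p50 (Nat.shiftLeft FPL_p51 15981)) 15981)) (Nat.shiftLeft (Nat.lor (Nat.lor FPL_p52 (Nat.shiftLeft FPL_p53 15981)) (Nat.shiftLeft (Nat.lor FPL_p54 (Nat.shiftLeft FPL_p55 15981)) 31962)) 47943)) 111867)) 223734)) 447468)) (Nat.shiftLeft (Nat.lor (Nat.lor (Nat.lor (Nat.lor (Nat.lor FPL_p56 (Nat.shiftLeft (Nat.lor FPL_p57 (Nat.shiftLeft FPL_p58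 15981)) 15981)) (Nat.shiftLeft (Nat.lor (Nat.lor FPL_p59 (Nat.shiftLeft FPL_p60 15981)) (Nat.shiftLeft (Nat.lor FPL_p61 (Nat.shiftLeft FPL_p62 15981)) 31962)) 47943)) (Nat.shiftLeft (Nat.lor (Nat.lor FPL_p63 (Nat.shiftLeft (Nat.lor FPL_p64 (Nat.shiftLeft FPL_p65 15981)) 15981)) (Nat.shiftLeft (Nat.lor (Nat.lor FPL_p66 (Nat.shiftLeft FPL_p67 15981)) (Nat.shiftLeft (Nat.lor FPL_p68 (Nat.shiftLeft FPL_p69 15981)) 31962)) 47943)) 111867)) (Nat.shiftLeft (Nat.lor (Nat.lor (Nat.lor FPL_p70 (Nat.shiftLeft (Nat.lor FPL_p71 (Nat.shiftLeft FPL_p72 15981)) 15981)) (Nat.shiftLeft (Nat.lor (Nat.lor FPL_p73 (Nat.shiftLeft FPL_p74 15981)) (Nat.shiftLeft (Nat.lor FPL_p75 (Nat.shiftLeft FPL_p76 15981)) 31962)) 47943)) (Nat.shiftLeft (Nat.lor (Nat.lor FPL_p77 (Nat.shiftLeft (Nat.lor FPL_p78 (Nat.shiftLeft FPL_p79 15981)) 15981)) (Nat.shiftLeft (Nat.lor (Nat.lor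 FPL_p80 (Nat.shiftLeft FPL_p81 15981)) (Nat.shiftLeft (Nat.lor FPL_p82 (Nat.shiftLeft FPL_p83 15981)) 31962)) 47943)) 111867)) 223734)) (Nat.shiftLeft (Nat.lor (Nat.lor (Nat.lor (Nat.lor FPL_p84 (Nat.shiftLeft (Nat.lor FPL_p85 (Nat.shiftLeft FPL_p86 15981)) 15981)) (Nat.shiftLeft (Nat.lor (Nat.lor FPL_p87 (Nat.shiftLeft FPL_p88 15981)) (Nat.shiftLeft (Nat.lor FPL_p89 (Nat.shiftLeft FPL_p90 15981)) 31962)) 47943)) (Nat.shiftLeft (Nat.lor (Nat.lor FPL_p91 (Nat.shiftLeft (Nat.lor FPL_p92 (Nat.shiftLeft FPL_p93 15981)) 15981)) (Nat.shiftLeft (Nat.lor (Nat.lor FPL_p94 (Nat.shiftLeft FPL_p95 15981)) (Nat.shiftLeft (Nat.lor FPL_p96 (Nat.shiftLeft FPL_p97 15981)) 31962)) 47943)) 111867)) (Nat.shiftLeft (Nat.lor (Nat.lor (Nat.lor FPL_p98 (Nat.shiftLeft (Nat.lor FPL_p99 (Nat.shiftLeft FPL_p100 15981)) 15981)) (Nat.shiftLeft (Nat.lor (Nat.lor FPL_p101 (Nat.shiftLeft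 FPL_p102 15981)) (Nat.shiftLeft (Nat.lor FPL_p103 (Nat.shiftLeft FPL_p104 15981)) 31962)) 47943)) (Nat.shiftLeft (Nat.lor (Nat.lor FPL_p105 (Nat.shiftLeft (Nat.lor FPL_p106 (Nat.shiftLeft FPL_p107 15981)) 15981)) (Nat.shiftLeft (Nat.lor (Nat.lor FPL_p108 (Nat.shiftLeft FPL_p109 15981)) (Nat.shiftLeft (Nat.lor FPL_p110 (Nat.shiftLeft FPL_p111 15981)) 31962)) 47943)) 111867)) 223734)) 447468)) 894936)) (Nat.shiftLeft (Nat.lor (Nat.lor (Nat.lor (Nat.lor (Nat.lor (Nat.lor FPL_p112 (Nat.shiftLeft (Nat.lor FPL_p113 (Nat.shiftLeft FPL_p114 15981)) 15981)) (Nat.shiftLeft (Nat.lor (Nat.lor FPL_p115 (Nat.shiftLeft FPL_p116 15981)) (Nat.shiftLeft (Nat.lor FPL_p117 (Nat.shiftLeft FPL_p118 15981)) 31962)) 47943)) (Nat.shiftLeft (Nat.lor (Nat.lor FPL_p119 (Nat.shiftLeft (Nat.lor FPL_p120 (Nat.shiftLeft FPL_p121 15981)) 15981)) (Nat.shiftLeft (Nat.lor (Nat.lor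 FPL_p122 (Nat.shiftLeft FPL_p123 15981)) (Nat.shiftLeft (Nat.lor FPL_p124 (Nat.shiftLeft FPL_p125 15981)) 31962)) 47943)) 111867)) (Nat.shiftLeft (Nat.lor (Nat.lor (Nat.lor FPL_p126 (Nat.shiftLeft (Nat.lor FPL_p127 (Nat.shiftLeft FPL_p128 15981)) 15981)) (Nat.shiftLeft (Nat.lor (Nat.lor FPL_p129 (Nat.shiftLeft FPL_p130 15981)) (Nat.shiftLeft (Nat.lor FPL_p131 (Nat.shiftLeft FPL_p132 15981)) 31962)) 47943)) (Nat.shiftLeft (Nat.lor (Nat.lor FPL_p133 (Nat.shiftLeft (Nat.lor FPL_p134 (Nat.shiftLeft FPL_p135 15981)) 15981)) (Nat.shiftLeft (Nat.lor (Nat.lor FPL_p136 (Nat.shiftLeft FPL_p137 15981)) (Nat.shiftLeft (Nat.lor FPL_p138 (Nat.shiftLeft FPL_p139 15981)) 31962)) 47943)) 111867)) 223734)) (Nat.shiftLeft (Nat.lor (Nat.lor (Nat.lor (Nat.lor FPL_p140 (Nat.shiftLeft (Nat.lor FPL_p141 (Nat.shiftLeft FPL_p142 15981)) 15981)) (Nat.shiftLeft (Nat.lor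 (Nat.lor FPL_p143 (Nat.shiftLeft FPL_p144 15981)) (Nat.shiftLeft (Nat.lor FPL_p145 (Nat.shiftLeft FPL_p146 15981)) 31962)) 47943)) (Nat.shiftLeft (Nat.lor (Nat.lor FPL_p147 (Nat.shiftLeft (Nat.lor FPL_p148 (Nat.shiftLeft FPL_p149 15981)) 15981)) (Nat.shiftLeft (Nat.lor (Nat.lor FPL_p150 (Nat.shiftLeft FPL_p151 15981)) (Nat.shiftLeft (Nat.lor FPL_p152 (Nat.shiftLeft FPL_p153 15981)) 31962)) 47943)) 111867)) (Nat.shiftLeft (Nat.lor (Nat.lor (Nat.lor FPL_p154 (Nat.shiftLeft (Nat.lor FPL_p155 (Nat.shiftLeft FPL_p156 15981)) 15981)) (Nat.shiftLeft (Nat.lor (Nat.lor FPL_p157 (Nat.shiftLeft FPL_p158 15981)) (Nat.shiftLeft (Nat.lor FPL_p159 (Nat.shiftLeft FPL_p160 15981)) 31962)) 47943)) (Nat.shiftLeft (Nat.lor (Nat.lor FPL_p161 (Nat.shiftLeft (Nat.lor FPL_p162 (Nat.shiftLeft FPL_p163 15981)) 15981)) (Nat.shiftLeft (Nat.lor (Nat.lor FPL_p164 (Nat.shiftLeft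 FPL_p165 15981)) (Nat.shiftLeft (Nat.lor FPL_p166 (Nat.shiftLeft FPL_p167 15981)) 31962)) 47943)) 111867)) 223734)) 447468)) (Nat.shiftLeft (Nat.lor (Nat.lor (Nat.lor (Nat.lor (Nat.lor FPL_p168 (Nat.shiftLeft (Nat.lor FPL_p169 (Nat.shiftLeft FPL_p170 15981)) 15981)) (Nat.shiftLeft (Nat.lor (Nat.lor FPL_p171 (Nat.shiftLeft FPL_p172 15981)) (Nat.shiftLeft (Nat.lor FPL_p173 (Nat.shiftLeft FPL_p174 15981)) 31962)) 47943)) (Nat.shiftLeft (Nat.lor (Nat.lor FPL_p175 (Nat.shiftLeft (Nat.lor FPL_p176 (Nat.shiftLeft FPL_p177 15981)) 15981)) (Nat.shiftLeft (Nat.lor (Nat.lor FPL_p178 (Nat.shiftLeft FPL_p179 15981)) (Nat.shiftLeft (Nat.lor FPL_p180 (Nat.shiftLeft FPL_p181 15981)) 31962)) 47943)) 111867)) (Nat.shiftLeft (Nat.lor (Nat.lor (Nat.lor FPL_p182 (Nat.shiftLeft (Nat.lor FPL_p183 (Nat.shiftLeft FPL_p184 15981)) 15981)) (Nat.shiftLeft (Nat.lor (Nat.lor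 FPL_p185 (Nat.shiftLeft FPL_p186 15981)) (Nat.shiftLeft (Nat.lor FPL_p187 (Nat.shiftLeft FPL_p188 15981)) 31962)) 47943)) (Nat.shiftLeft (Nat.lor (Nat.lor FPL_p189 (Nat.shiftLeft (Nat.lor FPL_p190 (Nat.shiftLeft FPL_p191 15981)) 15981)) (Nat.shiftLeft (Nat.lor (Nat.lor FPL_p192 (Nat.shiftLeft FPL_p193 15981)) (Nat.shiftLeft (Nat.lor FPL_p194 (Nat.shiftLeft FPL_p195 15981)) 31962)) 47943)) 111867)) 223734)) (Nat.shiftLeft (Nat.lor (Nat.lor (Nat.lor (Nat.lor FPL_p196 (Nat.shiftLeft (Nat.lor FPL_p197 (Nat.shiftLeft FPL_p198 15981)) 15981)) (Nat.shiftLeft (Nat.lor (Nat.lor FPL_p199 (Nat.shiftLeft FPL_p200 15981)) (Nat.shiftLeft (Nat.lor FPL_p201 (Nat.shiftLeft FPL_p202 15981)) 31962)) 47943)) (Nat.shiftLeft (Nat.lor (Nat.lor FPL_p203 (Nat.shiftLeft (Nat.lor FPL_p204 (Nat.shiftLeft FPL_p205 15981)) 15981)) (Nat.shiftLeft (Nat.lor (Nat.lor FPL_p206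 (Nat.shiftLeft FPL_p207 15981)) (Nat.shiftLeft (Nat.lor FPL_p208 (Nat.shiftLeft FPL_p209 15981)) 31962)) 47943)) 111867)) (Nat.shiftLeft (Nat.lor (Nat.lor (Nat.lor FPL_p210 (Nat.shiftLeft (Nat.lor FPL_p211 (Nat.shiftLeft FPL_p212 15981)) 15981)) (Nat.shiftLeft (Nat.lor (Nat.lor FPL_p213 (Nat.shiftLeft FPL_p214 15981)) (Nat.shiftLeft (Nat.lor FPL_p215 (Nat.shiftLeft FPL_p216 15981)) 31962)) 47943)) (Nat.shiftLeft (Nat.lor (Nat.lor (Nat.lor FPL_p217 (Nat.shiftLeft FPL_p218 15981)) (Nat.shiftLeft (Nat.lor FPL_p219 (Nat.shiftLeft FPL_p220 15981)) 31962)) (Nat.shiftLeft (Nat.lor (Nat.lor FPL_p221 (Nat.shiftLeft FPL_p222 15981)) (Nat.shiftLeft (Nat.lor FPL_p223 (Nat.shiftLeft FPL_p224 15981)) 31962)) 63924)) 111867)) 223734)) 447468)) 894936)) 1789872))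
noncomputable def FPL_M1 : Nat := Nat.sub (Nat.shiftLeft 1 86016) 1
noncomputable def FPL_M2 : Nat := Nat.sub (Nat.shiftLeft 1 672) 1
noncomputable def FPL (p : Nat) : Nat :=
  force (Nat.shiftRight p 12) fun b1 => force (Nat.land (Nat.shiftRight p 5) 127) fun b2 =>
    Nat.land (Nat.shiftRight (Nat.land (Nat.shiftRight (Nat.land (Nat.shiftRight FPL_T (Nat.mul b1 86016)) FPL_M1) (Nat.mul b2 672)) FPL_M2) (Nat.mul (Nat.land p 31) 21)) 2097151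

noncomputable def DD : Frs := ⟨1, 29459, FPL, 8, 42, 8, 170775, [149, 327, 226, 364, 231, 281]⟩

noncomputable def SPK_T : Nat := (Nat.lor SPK_p0 (Nat.shiftLeft SPK_p1 15985))
noncomputable def SPK_M1 : Nat := Nat.sub (Nat.shiftLeft 1 94208) 1
noncomputable def SPK_M2 : Nat := Nat.sub (Nat.shiftLeft 1 736) 1
noncomputable def SPK (p : Nat) : Nat :=
  force (Nat.shiftRight p 12) fun b1 => force (Nat.land (Nat.shiftRight p 5) 127) fun b2 =>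
    Nat.land (Nat.shiftRight (Nat.land (Nat.shiftRight (Nat.land (Nat.shiftRight SPK_T (Nat.mul b1 94208)) SPK_M1) (Nat.mul b2 736)) SPK_M2) (Nat.mul (Nat.land p 31) 23)) 8388607

noncomputable def SCN_T : Nat := SCN_p0
noncomputable def SCN_M1 : Nat := Nat.sub (Nat.shiftLeft 1 36864) 1
noncomputable def SCN_M2 : Nat := Nat.sub (Nat.shiftLeft 1 288) 1
noncomputable def SCN (p : Nat) : Nat :=
  force (Nat.shiftRight p 12) fun b1 => force (Nat.land (Nat.shiftRight p 5) 127) fun b2 =>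
    Nat.land (Nat.shiftRight (Nat.land (Nat.shiftRight (Nat.land (Nat.shiftRight SCN_T (Nat.mul b1 36864)) SCN_M1) (Nat.mul b2 288)) SCN_M2) (Nat.mul (Nat.land p 31) 9)) 511

noncomputable def WPT_T : Nat := WPT_p0
noncomputable def WPT_M1 : Nat := Nat.sub (Nat.shiftLeft 1 40960) 1
noncomputable def WPT_M2 : Nat := Nat.sub (Nat.shiftLeft 1 320) 1
noncomputable def WPT (p : Nat) : Nat :=
  force (Nat.shiftRight p 12) fun b1 => force (Nat.land (Nat.shiftRight p 5) 127) fun b2 =>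
    Nat.land (Nat.shiftRight (Nat.land (Nat.shiftRight (Nat.land (Nat.shiftRight WPT_T (Nat.mul b1 40960)) WPT_M1) (Nat.mul b2 320)) WPT_M2) (Nat.mul (Nat.land p 31) 10)) 1023

noncomputable def WPI_T : Nat := WPI_p0
noncomputable def WPI_M1 : Nat := Nat.sub (Nat.shiftLeft 1 32768) 1
noncomputable def WPI_M2 : Nat := Nat.sub (Nat.shiftLeft 1 256) 1
noncomputable def WPI (p : Nat) : Nat :=
  force (Nat.shiftRight p 12) fun b1 => force (Nat.land (Nat.shiftRight p 5) 127) fun b2 =>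
    Nat.land (Nat.shiftRight (Nat.land (Nat.shiftRight (Nat.land (Nat.shiftRight WPI_T (Nat.mul b1 32768)) WPI_M1) (Nat.mul b2 256)) WPI_M2) (Nat.mul (Nat.land p 31) 8)) 255

def sqL : List Nat := [0, 0, 2, 0, 0, 8, 0, 8, 42, 74]
def wlL : List Nat := [0, 1, 1, 2, 2, 2, 2, 2, 2, 2]
def wsL : List Nat := [1, 1, 2, 1, 2, 4, 8, 16, 32, 64]
def wbL : List Nat := [2, 1, 0]
def wmL : List Nat := [2, 4, 128]
noncomputable def SS : PcD where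
  off := 50
  a := 10
  sq := fun k => sqL.getD k 0
  cn := SCN
  wl := fun k => wlL.getD k 0
  ws := fun k => wsL.getD k 0
  wb := fun k => wbL.getD k 0
  wpt := fun l i => WPT (Nat.add (Nat.mul l 128) i)
  wpi := fun l q => WPI (Nat.add (Nat.mul l 552) q)
  wm := fun k => wmL.getD k 0
  lv := 3
  pk := SPK

noncomputable def OPL0_T : Nat := (Nat.lor (Nat.lor (Nat.lor (Nat.lor (Nat.lor (Nat.lor (Nat.lor OPL0_p0 (Nat.shiftLeft (Nat.lor OPL0_p1 (Nat.shiftLeft OPL0_p2 15981)) 15981)) (Nat.shiftLeft (Nat.lor (Nat.lor OPL0_p3 (Nat.shiftLeft OPL0_p4 15981)) (Nat.shiftLeft (Nat.lor OPL0_p5 (Nat.shiftLeft OPL0_p6 15981)) 31962)) 47943)) (Nat.shiftLeft (Nat.lor (Nat.lor OPL0_p7 (Nat.shiftLeft (Nat.lor OPL0_p8 (Nat.shiftLeft OPL0_p9 15981)) 15981)) (Nat.shiftLeft (Nat.lor (Nat.lor OPL0_p10 (Nat.shiftLeft OPL0_p11 15981)) (Nat.shiftLeft (Nat.lor OPL0_p12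 (Nat.shiftLeft OPL0_p13 15981)) 31962)) 47943)) 111867)) (Nat.shiftLeft (Nat.lor (Nat.lor (Nat.lor OPL0_p14 (Nat.shiftLeft (Nat.lor OPL0_p15 (Nat.shiftLeft OPL0_p16 15981)) 15981)) (Nat.shiftLeft (Nat.lor (Nat.lor OPL0_p17 (Nat.shiftLeft OPL0_p18 15981)) (Nat.shiftLeft (Nat.lor OPL0_p19 (Nat.shiftLeft OPL0_p20 15981)) 31962)) 47943)) (Nat.shiftLeft (Nat.lor (Nat.lor OPL0_p21 (Nat.shiftLeft (Nat.lor OPL0_p22 (Nat.shiftLeft OPL0_p23 15981)) 15981)) (Nat.shiftLeft (Nat.lor (Nat.lor OPL0_p24 (Nat.shiftLeft OPL0_p25 15981)) (Nat.shiftLeft (Nat.lor OPL0_p26 (Nat.shiftLeft OPL0_p27 15981)) 31962)) 47943)) 111867)) 223734)) (Nat.shiftLeft (Nat.lor (Nat.lor (Nat.lor (Nat.lor OPL0_p28 (Nat.shiftLeft (Nat.lor OPL0_p29 (Nat.shiftLeft OPL0_p30 15981)) 15981)) (Nat.shiftLeft (Nat.lor (Nat.lor OPL0_p31 (Nat.shiftLeft OPL0_p32 15981)) (Nat.shiftLeft (Nat.lor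 OPL0_p33 (Nat.shiftLeft OPL0_p34 15981)) 31962)) 47943)) (Nat.shiftLeft (Nat.lor (Nat.lor OPL0_p35 (Nat.shiftLeft (Nat.lor OPL0_p36 (Nat.shiftLeft OPL0_p37 15981)) 15981)) (Nat.shiftLeft (Nat.lor (Nat.lor OPL0_p38 (Nat.shiftLeft OPL0_p39 15981)) (Nat.shiftLeft (Nat.lor OPL0_p40 (Nat.shiftLeft OPL0_p41 15981)) 31962)) 47943)) 111867)) (Nat.shiftLeft (Nat.lor (Nat.lor (Nat.lor OPL0_p42 (Nat.shiftLeft (Nat.lor OPL0_p43 (Nat.shiftLeft OPL0_p44 15981)) 15981)) (Nat.shiftLeft (Nat.lor (Nat.lor OPL0_p45 (Nat.shiftLeft OPL0_p46 15981)) (Nat.shiftLeft (Nat.lor OPL0_p47 (Nat.shiftLeft OPL0_p48 15981)) 31962)) 47943)) (Nat.shiftLeft (Nat.lor (Nat.lor OPL0_p49 (Nat.shiftLeft (Nat.lor OPL0_p50 (Nat.shiftLeft OPL0_p51 15981)) 15981)) (Nat.shiftLeft (Nat.lor (Nat.lor OPL0_p52 (Nat.shiftLeft OPL0_p53 15981)) (Nat.shiftLeft (Nat.lor OPL0_p54 (Nat.shiftLeft OPL0_p55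 15981)) 31962)) 47943)) 111867)) 223734)) 447468)) (Nat.shiftLeft (Nat.lor (Nat.lor (Nat.lor (Nat.lor (Nat.lor OPL0_p56 (Nat.shiftLeft (Nat.lor OPL0_p57 (Nat.shiftLeft OPL0_p58 15981)) 15981)) (Nat.shiftLeft (Nat.lor (Nat.lor OPL0_p59 (Nat.shiftLeft OPL0_p60 15981)) (Nat.shiftLeft (Nat.lor OPL0_p61 (Nat.shiftLeft OPL0_p62 15981)) 31962)) 47943)) (Nat.shiftLeft (Nat.lor (Nat.lor OPL0_p63 (Nat.shiftLeft (Nat.lor OPL0_p64 (Nat.shiftLeft OPL0_p65 15981)) 15981)) (Nat.shiftLeft (Nat.lor (Nat.lor OPL0_p66 (Nat.shiftLeft OPL0_p67 15981)) (Nat.shiftLeft (Nat.lor OPL0_p68 (Nat.shiftLeft OPL0_p69 15981)) 31962)) 47943)) 111867)) (Nat.shiftLeft (Nat.lor (Nat.lor (Nat.lor OPL0_p70 (Nat.shiftLeft (Nat.lor OPL0_p71 (Nat.shiftLeft OPL0_p72 15981)) 15981)) (Nat.shiftLeft (Nat.lor (Nat.lor OPL0_p73 (Nat.shiftLeft OPL0_p74 15981)) (Nat.shiftLeft (Nat.lor OPL0_p75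 (Nat.shiftLeft OPL0_p76 15981)) 31962)) 47943)) (Nat.shiftLeft (Nat.lor (Nat.lor OPL0_p77 (Nat.shiftLeft (Nat.lor OPL0_p78 (Nat.shiftLeft OPL0_p79 15981)) 15981)) (Nat.shiftLeft (Nat.lor (Nat.lor OPL0_p80 (Nat.shiftLeft OPL0_p81 15981)) (Nat.shiftLeft (Nat.lor OPL0_p82 (Nat.shiftLeft OPL0_p83 15981)) 31962)) 47943)) 111867)) 223734)) (Nat.shiftLeft (Nat.lor (Nat.lor (Nat.lor (Nat.lor OPL0_p84 (Nat.shiftLeft (Nat.lor OPL0_p85 (Nat.shiftLeft OPL0_p86 15981)) 15981)) (Nat.shiftLeft (Nat.lor (Nat.lor OPL0_p87 (Nat.shiftLeft OPL0_p88 15981)) (Nat.shiftLeft (Nat.lor OPL0_p89 (Nat.shiftLeft OPL0_p90 15981)) 31962)) 47943)) (Nat.shiftLeft (Nat.lor (Nat.lor OPL0_p91 (Nat.shiftLeft (Nat.lor OPL0_p92 (Nat.shiftLeft OPL0_p93 15981)) 15981)) (Nat.shiftLeft (Nat.lor (Nat.lor OPL0_p94 (Nat.shiftLeft OPL0_p95 15981)) (Nat.shiftLeft (Nat.lor OPL0_p96 (Nat.shiftLeft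 OPL0_p97 15981)) 31962)) 47943)) 111867)) (Nat.shiftLeft (Nat.lor (Nat.lor (Nat.lor OPL0_p98 (Nat.shiftLeft (Nat.lor OPL0_p99 (Nat.shiftLeft OPL0_p100 15981)) 15981)) (Nat.shiftLeft (Nat.lor (Nat.lor OPL0_p101 (Nat.shiftLeft OPL0_p102 15981)) (Nat.shiftLeft (Nat.lor OPL0_p103 (Nat.shiftLeft OPL0_p104 15981)) 31962)) 47943)) (Nat.shiftLeft (Nat.lor (Nat.lor OPL0_p105 (Nat.shiftLeft (Nat.lor OPL0_p106 (Nat.shiftLeft OPL0_p107 15981)) 15981)) (Nat.shiftLeft (Nat.lor (Nat.lor OPL0_p108 (Nat.shiftLeft OPL0_p109 15981)) (Nat.shiftLeft (Nat.lor OPL0_p110 (Nat.shiftLeft OPL0_p111 15981)) 31962)) 47943)) 111867)) 223734)) 447468)) 894936)) (Nat.shiftLeft (Nat.lor (Nat.lor (Nat.lor (Nat.lor (Nat.lor (Nat.lor OPL0_p112 (Nat.shiftLeft (Nat.lor OPL0_p113 (Nat.shiftLeft OPL0_p114 15981)) 15981)) (Nat.shiftLeft (Nat.lor (Nat.lor OPL0_p115 (Nat.shiftLeft OPL0_p116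 15981)) (Nat.shiftLeft (Nat.lor OPL0_p117 (Nat.shiftLeft OPL0_p118 15981)) 31962)) 47943)) (Nat.shiftLeft (Nat.lor (Nat.lor OPL0_p119 (Nat.shiftLeft (Nat.lor OPL0_p120 (Nat.shiftLeft OPL0_p121 15981)) 15981)) (Nat.shiftLeft (Nat.lor (Nat.lor OPL0_p122 (Nat.shiftLeft OPL0_p123 15981)) (Nat.shiftLeft (Nat.lor OPL0_p124 (Nat.shiftLeft OPL0_p125 15981)) 31962)) 47943)) 111867)) (Nat.shiftLeft (Nat.lor (Nat.lor (Nat.lor OPL0_p126 (Nat.shiftLeft (Nat.lor OPL0_p127 (Nat.shiftLeft OPL0_p128 15981)) 15981)) (Nat.shiftLeft (Nat.lor (Nat.lor OPL0_p129 (Nat.shiftLeft OPL0_p130 15981)) (Nat.shiftLeft (Nat.lor OPL0_p131 (Nat.shiftLeft OPL0_p132 15981)) 31962)) 47943)) (Nat.shiftLeft (Nat.lor (Nat.lor OPL0_p133 (Nat.shiftLeft (Nat.lor OPL0_p134 (Nat.shiftLeft OPL0_p135 15981)) 15981)) (Nat.shiftLeft (Nat.lor (Nat.lor OPL0_p136 (Nat.shiftLeft OPL0_p137 15981))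 (Nat.shiftLeft (Nat.lor OPL0_p138 (Nat.shiftLeft OPL0_p139 15981)) 31962)) 47943)) 111867)) 223734)) (Nat.shiftLeft (Nat.lor (Nat.lor (Nat.lor (Nat.lor OPL0_p140 (Nat.shiftLeft (Nat.lor OPL0_p141 (Nat.shiftLeft OPL0_p142 15981)) 15981)) (Nat.shiftLeft (Nat.lor (Nat.lor OPL0_p143 (Nat.shiftLeft OPL0_p144 15981)) (Nat.shiftLeft (Nat.lor OPL0_p145 (Nat.shiftLeft OPL0_p146 15981)) 31962)) 47943)) (Nat.shiftLeft (Nat.lor (Nat.lor OPL0_p147 (Nat.shiftLeft (Nat.lor OPL0_p148 (Nat.shiftLeft OPL0_p149 15981)) 15981)) (Nat.shiftLeft (Nat.lor (Nat.lor OPL0_p150 (Nat.shiftLeft OPL0_p151 15981)) (Nat.shiftLeft (Nat.lor OPL0_p152 (Nat.shiftLeft OPL0_p153 15981)) 31962)) 47943)) 111867)) (Nat.shiftLeft (Nat.lor (Nat.lor (Nat.lor OPL0_p154 (Nat.shiftLeft (Nat.lor OPL0_p155 (Nat.shiftLeft OPL0_p156 15981)) 15981)) (Nat.shiftLeft (Nat.lor (Nat.lor OPL0_p157 (Nat.shiftLeft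 OPL0_p158 15981)) (Nat.shiftLeft (Nat.lor OPL0_p159 (Nat.shiftLeft OPL0_p160 15981)) 31962)) 47943)) (Nat.shiftLeft (Nat.lor (Nat.lor OPL0_p161 (Nat.shiftLeft (Nat.lor OPL0_p162 (Nat.shiftLeft OPL0_p163 15981)) 15981)) (Nat.shiftLeft (Nat.lor (Nat.lor OPL0_p164 (Nat.shiftLeft OPL0_p165 15981)) (Nat.shiftLeft (Nat.lor OPL0_p166 (Nat.shiftLeft OPL0_p167 15981)) 31962)) 47943)) 111867)) 223734)) 447468)) (Nat.shiftLeft (Nat.lor (Nat.lor (Nat.lor (Nat.lor (Nat.lor OPL0_p168 (Nat.shiftLeft (Nat.lor OPL0_p169 (Nat.shiftLeft OPL0_p170 15981)) 15981)) (Nat.shiftLeft (Nat.lor (Nat.lor OPL0_p171 (Nat.shiftLeft OPL0_p172 15981)) (Nat.shiftLeft (Nat.lor OPL0_p173 (Nat.shiftLeft OPL0_p174 15981)) 31962)) 47943)) (Nat.shiftLeft (Nat.lor (Nat.lor OPL0_p175 (Nat.shiftLeft (Nat.lor OPL0_p176 (Nat.shiftLeft OPL0_p177 15981)) 15981)) (Nat.shiftLeft (Nat.lor (Nat.lor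 OPL0_p178 (Nat.shiftLeft OPL0_p179 15981)) (Nat.shiftLeft (Nat.lor OPL0_p180 (Nat.shiftLeft OPL0_p181 15981)) 31962)) 47943)) 111867)) (Nat.shiftLeft (Nat.lor (Nat.lor (Nat.lor OPL0_p182 (Nat.shiftLeft (Nat.lor OPL0_p183 (Nat.shiftLeft OPL0_p184 15981)) 15981)) (Nat.shiftLeft (Nat.lor (Nat.lor OPL0_p185 (Nat.shiftLeft OPL0_p186 15981)) (Nat.shiftLeft (Nat.lor OPL0_p187 (Nat.shiftLeft OPL0_p188 15981)) 31962)) 47943)) (Nat.shiftLeft (Nat.lor (Nat.lor OPL0_p189 (Nat.shiftLeft (Nat.lor OPL0_p190 (Nat.shiftLeft OPL0_p191 15981)) 15981)) (Nat.shiftLeft (Nat.lor (Nat.lor OPL0_p192 (Nat.shiftLeft OPL0_p193 15981)) (Nat.shiftLeft (Nat.lor OPL0_p194 (Nat.shiftLeft OPL0_p195 15981)) 31962)) 47943)) 111867)) 223734)) (Nat.shiftLeft (Nat.lor (Nat.lor (Nat.lor (Nat.lor OPL0_p196 (Nat.shiftLeft (Nat.lor OPL0_p197 (Nat.shiftLeft OPL0_p198 15981)) 15981)) (Nat.shiftLeft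 (Nat.lor (Nat.lor OPL0_p199 (Nat.shiftLeft OPL0_p200 15981)) (Nat.shiftLeft (Nat.lor OPL0_p201 (Nat.shiftLeft OPL0_p202 15981)) 31962)) 47943)) (Nat.shiftLeft (Nat.lor (Nat.lor OPL0_p203 (Nat.shiftLeft (Nat.lor OPL0_p204 (Nat.shiftLeft OPL0_p205 15981)) 15981)) (Nat.shiftLeft (Nat.lor (Nat.lor OPL0_p206 (Nat.shiftLeft OPL0_p207 15981)) (Nat.shiftLeft (Nat.lor OPL0_p208 (Nat.shiftLeft OPL0_p209 15981)) 31962)) 47943)) 111867)) (Nat.shiftLeft (Nat.lor (Nat.lor (Nat.lor OPL0_p210 (Nat.shiftLeft (Nat.lor OPL0_p211 (Nat.shiftLeft OPL0_p212 15981)) 15981)) (Nat.shiftLeft (Nat.lor (Nat.lor OPL0_p213 (Nat.shiftLeft OPL0_p214 15981)) (Nat.shiftLeft (Nat.lor OPL0_p215 (Nat.shiftLeft OPL0_p216 15981)) 31962)) 47943)) (Nat.shiftLeft (Nat.lor (Nat.lor (Nat.lor OPL0_p217 (Nat.shiftLeft OPL0_p218 15981)) (Nat.shiftLeft (Nat.lor OPL0_p219 (Nat.shiftLeft OPL0_p220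 15981)) 31962)) (Nat.shiftLeft (Nat.lor (Nat.lor OPL0_p221 (Nat.shiftLeft OPL0_p222 15981)) (Nat.shiftLeft (Nat.lor OPL0_p223 (Nat.shiftLeft OPL0_p224 15981)) 31962)) 63924)) 111867)) 223734)) 447468)) 894936)) 1789872))
noncomputable def OPL0_M1 : Nat := Nat.sub (Nat.shiftLeft 1 86016) 1
noncomputable def OPL0_M2 : Nat := Nat.sub (Nat.shiftLeft 1 672) 1
noncomputable def OPL0 (p : Nat) : Nat :=
  force (Nat.shiftRight p 12) fun b1 => force (Nat.land (Nat.shiftRight p 5) 127) fun b2 =>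
    Nat.land (Nat.shiftRight (Nat.land (Nat.shiftRight (Nat.land (Nat.shiftRight OPL0_T (Nat.mul b1 86016)) OPL0_M1) (Nat.mul b2 672)) OPL0_M2) (Nat.mul (Nat.land p 31) 21)) 2097151

noncomputable def OO0 : Frs := ⟨61, 56614, OPL0, 8, 42, 7, 170780, [345, 551, 475, 40, 232, 16]⟩

noncomputable def Os : List Frs := [OO0]

def wdsL : List (List Nat) := [
  [],
  [9, 11, 9, 8, 8, 7, 7, 8, 6, 6, 2, 2, 2, 2, 2, 2, 3, 0, 0, 0, 0, 0, 1, 0, 1, 0, 1, 0, 0, 1],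
  [12, 12, 10, 10, 9, 7, 7, 7, 8, 7, 5, 5, 4, 5, 3, 2, 3, 2, 2, 3, 0, 0, 0, 0, 0, 1, 0, 1, 0, 0, 0, 1, 0, 1, 0, 0],
  [12, 12, 10, 10, 10, 11, 10, 8, 7, 7, 8, 8, 7, 8, 6, 5, 4, 4, 2, 3, 3, 2, 3, 2, 3, 2, 0, 0, 1, 0],
  [12, 10, 8, 7, 4, 5, 5, 4, 2, 2, 3, 0, 0, 0, 1, 0, 0, 1, 0, 1, 0, 0, 1, 0, 0, 0],
  [12, 12, 9, 9, 11, 10, 8, 7, 5, 6, 4, 2, 2, 2, 2, 2, 2, 2, 0, 0, 0, 0, 0, 1, 0, 1, 0, 0, 0, 1, 0],
  [12, 12, 9, 10, 9, 7, 7, 4, 5, 3, 2, 3, 0, 0, 0, 0, 0, 0, 1, 0, 1],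
  [12, 9, 10, 10, 11, 11, 9, 8, 8, 8, 7, 7, 5, 6, 5, 3, 2, 2, 2, 3, 3, 3, 2, 0, 0, 0, 0, 0, 0, 0, 0, 0, 1, 0, 0, 1, 0],
  [12, 12, 9, 9, 11, 8, 7, 7, 8, 7, 4, 4, 4, 5, 5, 2, 2, 2, 2, 3, 2, 3, 2, 0, 0, 0, 1],
  [9, 10, 7, 8, 7, 8, 8, 5, 6, 4, 5, 4, 2, 3, 3, 2, 3, 2, 0, 0, 0, 1, 0, 0, 1, 0, 0, 0, 0, 1, 0, 1, 0]]
def wds (j : Nat) : List Nat := wdsL.getD j []

def Bs : List Nat := [0, 1, 2, 3, 4, 5]

def rs : List (List Bool × Nat × Nat) := [([true, false], 6, 410),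
  ([true, true, true, true, true, true, true, false], 10, 357),
  ([true, true, true, true, true, true, true, true, true, false], 10, 157),
  ([true, true, true, true, true, true, true, true, true, true, true, false], 11, 520),
  ([true, false], 6, 89),
  ([true, false, true, true, false, true, true, true, false], 9, 9)]

def goods : List (Nat × Nat) := [(29459, 0), (155065, 1), (126004, 2), (109674, 3), (112138, 4), (149085, 5), (47396, 6), (86953, 7), (34698, 8), (143436, 9), (94429, 10), (47756, 11), (22545, 12), (149316, 13), (82137, 14), (128792, 15), (46772, 16), (127548, 17), (136846, 18), (97594, 19), (95832, 20), (149115, 21), (87503, 22)]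

def goodIdx : List Nat := goods.map Prod.fst

def R2 : List (Nat × List (List Bool × Nat × Nat)) := [(5, [([true, false], 6, 531), ([true, true, true, true, true, true, true, true, true, true, true, false], 11, 407), ([true, true, true, true, true, true, true, false], 10, 197), ([true, true, true, true, true, true, true, true, true, false], 10, 454), ([true, false], 6, 515), ([true, false, true, true, false, true, true, true, false], 9, 9)])]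


end Cfsg.Agent.Lib.PermComp.OutP.Co3o
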